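import Cfsg.Agent.Lib.CosetEnum.LyP.Hom
import Cfsg.Agent.Lib.CosetEnum.LyP.Order

/-!
Words in the subgroup `P` of the presented Lyons group: checked equality, inverses, products of
listed generators, images of points.
-/

set_option autoImplicit false
set_option maxRecDepth 20000

namespace Cfsg.Agent.Lib.CosetEnum.LyP.Dce

open Cfsg.Agent.Lib.CosetEnum Cfsg.Agent.Lib.CosetEnum.LyP Cfsg.Agent.Lib.ExactCover

/-- All letters are letters of `P`. -/
def okWord (u : List ℕ) : Bool := u.all fun g => Nat.blt g 10

/-- The base points. -/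
def basePt (c : ℕ) : ℕ := [2, 0, 1, 4].getD c 0

/-- The words are valid and agree on the base points, so are equal in `P`. -/
noncomputable def wordEq (u v : List ℕ) : Bool :=
  okWord u && okWord v &&
    ([0, 1, 2, 4].all fun b => Nat.beq (scan 10 table u b) (scan 10 table v b))

theorem val_append (u v : List ℕ) : val (u ++ v) = val u * val v := by simp [val]

theorem val_nil : val [] = 1 := by simp [val]

theorem okWord_iff {u : List ℕ} : okWord u = true ↔ ∀ g ∈ u, g < 10 := by
  simp [okWord, List.all_eq_true, Nat.blt_eq]

theorem val_eq_of_wordEq {u v : List ℕ} (h : wordEq u v = true) : val u = val v := by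
  simp only [wordEq, Bool.and_eq_true, List.all_eq_true, Nat.beq_eq] at h
  exact val_eq_of_base u v (okWord_iff.1 h.1.1) (okWord_iff.1 h.1.2) h.2

theorem okWord_of_wordEq {u v : List ℕ} (h : wordEq u v = true) :
    okWord u = true ∧ okWord v = true := by
  simp only [wordEq, Bool.and_eq_true] at h
  exact h.1

theorem flip_lt {g : ℕ} (hg : g < 10) : ExactCover.flip g < 10 := by unfold ExactCover.flip; split <;> omega

theorem val_flip {g : ℕ} (hg : g < 10) : val [ExactCover.flip g] = (val [g])⁻¹ := by
  have h : ∀ g < 10, wordEq ([ExactCover.flip g] ++ [g]) [] = true := by decide +kernel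
  have := val_eq_of_wordEq (h g hg)
  rw [val_append, val_nil] at this
  exact eq_inv_of_mul_eq_one_left this

theorem val_invWord : ∀ u : List ℕ, okWord u = true → val (invWord u) = (val u)⁻¹ := by
  intro u
  induction u with
  | nil => intro _; simp [invWord, val]
  | cons g u ih =>
    intro h
    simp only [okWord, List.all_cons, Bool.and_eq_true, Nat.blt_eq] at h
    rw [invWord, List.map_cons, List.reverse_cons, val_append, ← invWord, ih h.2, val_flip h.1,
      show g :: u = [g] ++ u from rfl, val_append, mul_inv_rev]

theorem okWord_invWord {u : List ℕ} (h : okWord u = true) : okWord (invWord u) = true := by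
  rw [okWord_iff] at h ⊢
  intro g hg
  simp only [invWord, List.mem_reverse, List.mem_map] at hg
  obtain ⟨a, ha, rfl⟩ := hg
  exact flip_lt (h a ha)

theorem okWord_append {u v : List ℕ} (hu : okWord u = true) (hv : okWord v = true) :
    okWord (u ++ v) = true := by
  simp only [okWord, List.all_append, Bool.and_eq_true] at *
  exact ⟨hu, hv⟩

/-- A product of listed generators and inverses. -/
def genWord (gens : List (List ℕ)) (l : List (ℕ × Bool)) : List ℕ :=
  (l.map fun p => bif p.2 then invWord (gens.getD p.1 []) else gens.getD p.1 []).flatten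

/-- The subgroup generated by listed words. -/
noncomputable def genGroup (gens : List (List ℕ)) : Subgroup (PresentedGroup pres) :=
  Subgroup.closure {x | ∃ s ∈ gens, val s = x}

theorem genWord_spec {gens : List (List ℕ)} (hg : ∀ s ∈ gens, okWord s = true) :
    ∀ l : List (ℕ × Bool), okWord (genWord gens l) = true ∧ val (genWord gens l) ∈ genGroup gens := by
  intro l
  induction l with
  | nil => exact ⟨rfl, by simp [genWord, val]⟩
  | cons p l ih =>
    have hp : okWord (gens.getD p.1 []) = true ∧ val (gens.getD p.1 []) ∈ genGroup gens := by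
      rcases lt_or_ge p.1 gens.length with h | h
      · rw [List.getD_eq_getElem _ _ h]
        exact ⟨hg _ (List.getElem_mem h), Subgroup.subset_closure ⟨_, List.getElem_mem h, rfl⟩⟩
      · rw [List.getD_eq_default _ _ h]
        exact ⟨rfl, by simp [val]⟩
    have e : genWord gens (p :: l) =
        (bif p.2 then invWord (gens.getD p.1 []) else gens.getD p.1 []) ++ genWord gens l := by
      simp [genWord]
    rw [e, val_append]
    cases p.2
    · exact ⟨okWord_append hp.1 ih.1, mul_mem hp.2 ih.2⟩
    · exact ⟨okWord_append (okWord_invWord hp.1) ih.1, mul_mem (by rw [cond_true, val_invWord _ hp.1]; exact inv_mem hp.2) ih.2⟩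

/-- In a finite group, a property closed under products and holding for generators holds on the
subgroup they generate. -/
theorem closure_induction_mul {G : Type*} [Group G] [Finite G] {s : Set G} {p : G → Prop}
    (hs : ∀ x ∈ s, p x) (h1 : p 1) (hm : ∀ a b, p a → p b → p (a * b)) {x : G}
    (hx : x ∈ Subgroup.closure s) : p x := by
  induction hx using Subgroup.closure_induction with
  | mem x hx => exact hs x hx
  | one => exact h1
  | mul a b _ _ ha hb => exact hm a b ha hb
  | inv a _ ha =>
    have hpow : ∀ n : ℕ, p (a ^ n) := by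
      intro n
      induction n with
      | zero => simpa using h1
      | succ n ih => rw [pow_succ]; exact hm _ _ ih ha
    have he : a⁻¹ = a ^ (orderOf a - 1) := by
      refine inv_eq_of_mul_eq_one_right ?_
      rw [← pow_succ', Nat.sub_add_cancel (orderOf_pos a), pow_orderOf_eq_one]
    rw [he]; exact hpow _

/-- The inverse image of a point, as a number. -/
noncomputable def imgPt (q : PresentedGroup pres) (x : ℕ) : ℕ :=
  if h : x < 3906 then ((act q)⁻¹ ⟨x, h⟩).1 else 0

theorem imgPt_lt (q : PresentedGroup pres) (x : ℕ) : imgPt q x < 3906 := by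
  unfold imgPt
  split
  · exact Fin.isLt _
  · omega

theorem imgPt_word (w : List ℕ) (hw : okWord w = true) {x : ℕ} (hx : x < 3906) :
    imgPt (val w) x = scan 10 table w x := by
  rw [imgPt, dif_pos hx]
  exact act_word w (okWord_iff.1 hw) ⟨x, hx⟩

theorem imgPt_mul (p q : PresentedGroup pres) {x : ℕ} (hx : x < 3906) :
    imgPt (p * q) x = imgPt q (imgPt p x) := by
  rw [imgPt, dif_pos hx, imgPt, dif_pos (imgPt_lt p x)]
  simp only [imgPt, dif_pos hx, map_mul, mul_inv_rev, Equiv.Perm.mul_apply, Fin.eta]

theorem imgPt_one {x : ℕ} (hx : x < 3906) : imgPt 1 x = x := by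
  simp [imgPt, dif_pos hx]

theorem basePt_lt (c : ℕ) : basePt c < 3906 := by
  rcases lt_or_ge c 4 with h | h
  · interval_cases c <;> simp [basePt]
  · rw [basePt, List.getD_eq_default _ _ (show ([2, 0, 1, 4] : List ℕ).length ≤ c by simpa using h)]
    omega

theorem exists_word (q : PresentedGroup pres) : ∃ u, okWord u = true ∧ val u = q := by
  haveI := finite
  have hq : q ∈ Subgroup.closure (Set.range (PresentedGroup.of : Fin 5 → PresentedGroup pres)) := by
    rw [PresentedGroup.closure_range_of]; trivial
  refine closure_induction_mul (p := fun q => ∃ u, okWord u = true ∧ val u = q) ?_ ?_ ?_ hq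
  · rintro _ ⟨i, rfl⟩
    refine ⟨[2 * i.val], by fin_cases i <;> decide, ?_⟩
    rw [← Letters.phi_col (L := letters) (S := pres) letters_col]
    simp [val]
    rfl
  · exact ⟨[], rfl, val_nil⟩
  · rintro a b ⟨u, hu, rfl⟩ ⟨v, hv, rfl⟩
    exact ⟨u ++ v, okWord_append hu hv, val_append u v⟩

theorem eq_of_imgPt {p q : PresentedGroup pres}
    (h : ∀ c < 4, imgPt p (basePt c) = imgPt q (basePt c)) : p = q := by
  obtain ⟨u, hu, rfl⟩ := exists_word p
  obtain ⟨v, hv, rfl⟩ := exists_word q
  refine val_eq_of_base u v (okWord_iff.1 hu) (okWord_iff.1 hv) fun b hb => ?_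
  obtain ⟨c, hc, rfl⟩ : ∃ c < 4, basePt c = b := by
    simp only [List.mem_cons, List.not_mem_nil, or_false] at hb
    rcases hb with rfl | rfl | rfl | rfl
    exacts [⟨1, by omega, rfl⟩, ⟨2, by omega, rfl⟩, ⟨0, by omega, rfl⟩, ⟨3, by omega, rfl⟩]
  rw [← imgPt_word u hu (basePt_lt c), ← imgPt_word v hv (basePt_lt c)]
  exact h c hc

end Cfsg.Agent.Lib.CosetEnum.LyP.Dce
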