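import Cfsg.Agent.Lib.CosetEnum.LyP.Dce.Basic

/-!
Exact orders of subgroups of `P` given by generators: levels of point stabilisers, each with a list of
coset representatives closed under the generators.
-/

set_option autoImplicit false
set_option maxRecDepth 20000

namespace Cfsg.Agent.Lib.CosetEnum.LyP.Dce

open Cfsg.Agent.Lib.CosetEnum Cfsg.Agent.Lib.CosetEnum.LyP Cfsg.Agent.Lib.ExactCover

/-- One level: a point, generators, representatives of the cosets of the point stabiliser, for each
representative how it is reached, for the generators of the next level their expressions, and the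
products of representatives and generators. -/
structure SLevel where
  b : ℕ
  gens : List (List ℕ)
  reps : List (List ℕ)
  rpar : List (ℕ × ℕ)
  sub : List (List (ℕ × Bool))
  sch : List (List (ℕ × List (ℕ × Bool)))

namespace SLevel

variable (L : SLevel) (next : List (List ℕ))

/-- The check of one level against the generators of the next one. -/
noncomputable def check : Bool :=
  Nat.blt L.b 3906 && Nat.blt 0 L.reps.length && decide (L.reps.getD 0 [] = []) &&
  L.reps.all okWord && L.gens.all okWord && next.all okWord &&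
  ((List.range next.length).all fun g =>
    Nat.beq (scan 10 table (next.getD g []) L.b) L.b &&
      wordEq (next.getD g []) (genWord L.gens (L.sub.getD g []))) &&
  ((List.range L.reps.length).all fun x =>
    (Nat.beq x 0 ||
      let q := L.rpar.getD x (0, 0)
      Nat.blt q.1 x && Nat.blt q.2 L.gens.length &&
        wordEq (L.reps.getD x []) (L.reps.getD q.1 [] ++ L.gens.getD q.2 [])) &&
    ((List.range L.gens.length).all fun g =>
      let q := (L.sch.getD x []).getD g (0, [])
      Nat.blt q.1 L.reps.length &&
        wordEq (L.reps.getD x [] ++ L.gens.getD g []) (genWord next q.2 ++ L.reps.getD q.1 [])) &&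
    ((List.range x).all fun y =>
      !Nat.beq (scan 10 table (L.reps.getD x []) L.b) (scan 10 table (L.reps.getD y []) L.b)))

variable {L next}

theorem card_eq (h : L.check next = true) :
    Nat.card (genGroup L.gens) = Nat.card (genGroup next) * L.reps.length := by
  haveI := finite
  simp only [check, Bool.and_eq_true, List.all_eq_true, List.mem_range, Nat.blt_eq, Nat.beq_eq,
    decide_eq_true_eq, Bool.not_eq_true'] at h
  obtain ⟨⟨⟨⟨⟨⟨⟨hb, hn⟩, h0⟩, hrep⟩, hgen⟩, hnext⟩, hsub⟩, hx⟩ := h
  have hnext_mem : ∀ y ∈ genGroup next, y ∈ genGroup L.gens ∧ imgPt y L.b = L.b := by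
    intro y hy
    refine closure_induction_mul (p := fun y => y ∈ genGroup L.gens ∧ imgPt y L.b = L.b)
      ?_ ⟨one_mem _, imgPt_one hb⟩ ?_ hy
    · rintro _ ⟨s, hs, rfl⟩
      obtain ⟨g, hg, rfl⟩ := List.mem_iff_getElem.1 hs
      obtain ⟨h1, h2⟩ := hsub g hg
      rw [List.getD_eq_getElem _ _ hg] at h1 h2
      refine ⟨?_, by rw [imgPt_word _ (hnext _ (List.getElem_mem hg)) hb]; exact h1⟩
      rw [val_eq_of_wordEq h2]
      exact (genWord_spec hgen _).2
    · rintro a c ⟨ha, ha'⟩ ⟨hc, hc'⟩
      exact ⟨mul_mem ha hc, by rw [imgPt_mul _ _ hb, ha', hc']⟩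
  have hr : ∀ x < L.reps.length, val (L.reps.getD x []) ∈ genGroup L.gens := by
    intro x
    induction x using Nat.strong_induction_on with
    | _ x ih =>
      intro hxn
      rcases Nat.eq_zero_or_pos x with rfl | hpos
      · rw [h0, val_nil]; exact one_mem _
      · obtain ⟨⟨h1, -⟩, -⟩ := hx x hxn
        simp only [Bool.or_eq_true, Bool.and_eq_true, Nat.blt_eq, Nat.beq_eq] at h1
        rcases h1 with h1 | ⟨⟨h1, h2⟩, h3⟩
        · omega
        rw [val_eq_of_wordEq h3, val_append]
        refine mul_mem (ih _ h1 (by omega)) ?_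
        rw [List.getD_eq_getElem _ _ h2]
        exact Subgroup.subset_closure ⟨_, List.getElem_mem h2, rfl⟩
  have hall : ∀ s ∈ genGroup L.gens, ∀ x < L.reps.length,
      ∃ x' < L.reps.length, ∃ y ∈ genGroup next,
        val (L.reps.getD x []) * s = y * val (L.reps.getD x' []) := by
    intro s hs
    refine closure_induction_mul (p := fun s => ∀ x < L.reps.length, ∃ x' < L.reps.length,
      ∃ y ∈ genGroup next, val (L.reps.getD x []) * s = y * val (L.reps.getD x' [])) ?_ ?_ ?_ hs
    · rintro _ ⟨s, hs, rfl⟩ x hxn
      obtain ⟨g, hg, rfl⟩ := List.mem_iff_getElem.1 hs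
      obtain ⟨⟨-, h2⟩, -⟩ := hx x hxn
      obtain ⟨h3, h4⟩ := h2 g hg
      rw [List.getD_eq_getElem _ _ hg] at h4
      refine ⟨_, h3, _, (genWord_spec hnext ((L.sch.getD x []).getD g (0, [])).2).2, ?_⟩
      rw [← val_append, ← val_append]
      exact val_eq_of_wordEq h4
    · exact fun x hxn => ⟨x, hxn, 1, one_mem _, by rw [mul_one, one_mul]⟩
    · intro a c ha hc x hxn
      obtain ⟨x1, hx1, y1, hy1, e1⟩ := ha x hxn
      obtain ⟨x2, hx2, y2, hy2, e2⟩ := hc x1 hx1
      exact ⟨x2, hx2, y1 * y2, mul_mem hy1 hy2, by rw [← mul_assoc, e1, mul_assoc, e2, mul_assoc]⟩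
  let F : genGroup next × Fin L.reps.length → genGroup L.gens := fun p =>
    ⟨p.1.1 * val (L.reps.getD p.2.1 []), mul_mem (hnext_mem _ p.1.2).1 (hr _ p.2.2)⟩
  have hinj : Function.Injective F := by
    rintro ⟨⟨y, hy⟩, x⟩ ⟨⟨y', hy'⟩, x'⟩ he
    simp only [F, Subtype.mk.injEq] at he
    have hp : ∀ {y : PresentedGroup pres} (_ : y ∈ genGroup next) (x : Fin L.reps.length),
        imgPt (y * val (L.reps.getD x.1 [])) L.b = scan 10 table (L.reps.getD x.1 []) L.b := by
      intro y hy x
      have hok : okWord (L.reps.getD x.1 []) = true := by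
        rw [List.getD_eq_getElem _ _ x.2]; exact hrep _ (List.getElem_mem x.2)
      rw [imgPt_mul _ _ hb, (hnext_mem _ hy).2, imgPt_word _ hok hb]
    have hxx : x = x' := by
      by_contra hne
      have h1 := hp hy x
      have h2 := hp hy' x'
      rw [he, h2] at h1
      rcases Nat.lt_or_gt_of_ne (fun e => hne (Fin.ext e)) with hlt | hlt
      · have := (hx x'.1 x'.2).2 x.1 hlt
        rw [h1] at this
        simp at this
      · have := (hx x.1 x.2).2 x'.1 hlt
        rw [← h1] at this
        simp at this
    subst hxx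
    simp [mul_right_cancel he]
  have hsurj : Function.Surjective F := by
    rintro ⟨s, hs⟩
    obtain ⟨x', hx', y, hy, e⟩ := hall s hs 0 hn
    rw [h0, val_nil, one_mul] at e
    exact ⟨(⟨y, hy⟩, ⟨x', hx'⟩), Subtype.ext e.symm⟩
  rw [← Nat.card_congr (Equiv.ofBijective F ⟨hinj, hsurj⟩), Nat.card_prod, Nat.card_fin]

end SLevel

/-- The generators of a chain of levels. -/
def chainGens : List SLevel → List (List ℕ)
  | [] => []
  | L :: _ => L.gens

/-- The order of a chain of levels. -/
def chainCard : List SLevel → ℕ
  | [] => 1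
  | L :: r => chainCard r * L.reps.length

/-- The check of a chain of levels. -/
noncomputable def chainOK : List SLevel → Bool
  | [] => true
  | L :: r => L.check (chainGens r) && chainOK r

theorem card_chain : ∀ l : List SLevel, chainOK l = true →
    Nat.card (genGroup (chainGens l)) = chainCard l := by
  intro l
  induction l with
  | nil => intro _; simp [chainGens, genGroup, chainCard]
  | cons L r ih =>
    intro h
    simp only [chainOK, Bool.and_eq_true] at h
    rw [chainGens, SLevel.card_eq h.1, ih h.2, chainCard]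

end Cfsg.Agent.Lib.CosetEnum.LyP.Dce
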