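import Cfsg.Agent.Lib.CosetEnum.LyP.Dce.Deriv
import Cfsg.Agent.Lib.CosetEnum.LyP.Dce.Stab

/-!
The double cosets found by the enumeration cover the group: every element of `P` splits along the
classes of each node, so the index of the image of `P` is at most the sum of the indices of the node
stabilisers.
-/

set_option autoImplicit false
set_option maxRecDepth 20000

namespace Cfsg.Agent.Lib.CosetEnum.LyP.Dce

open Cfsg.Agent.Lib.CosetEnum Cfsg.Agent.Lib.CosetEnum.LyP Cfsg.Agent.Lib.ExactCover

/-- The five cosets of `K` in the stabiliser of the point `0`: representatives and their products with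
`a, b, c`. -/
structure Fibre where
  r : List (List ℕ)
  close : List (List (ℕ × List ℕ))

/-- A root of an orbit of a node stabiliser on points: the point, a word reaching it, and for each
coset of `K` above it a class, a product of generators and a word in the generators of `K`. -/
structure Root where
  x : ℕ
  t : List ℕ
  fib : List (ℕ × List (ℕ × Bool) × List ℕ)

/-- The data of a node: generators of its stabiliser with their equations, the levels proving its
order, classes with their equations, and the orbits on points. -/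
structure NodeData where
  gens : List (List ℕ)
  gfact : List ℕ
  chain : List SLevel
  classes : List (List ℕ × ℕ)
  roots : List Root
  par : PTree
  rank : PTree

variable (KD : KData) (FB : Fibre) (facts : List DFact)

/-- The check of the fibre. -/
noncomputable def Fibre.check : Bool :=
  decide (FB.r.getD 0 [] = []) && (FB.r.all okWord) && KD.kGen.all okWord &&
  (([0, 2, 4] : List ℕ).all fun g => Nat.beq (scan 10 table [g] 0) 0) &&
  ((List.range 5).all fun j => (List.range 3).all fun g =>
    let q := (FB.close.getD j []).getD g (0, [])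
    Nat.blt q.1 5 && okK KD q.2 &&
      wordEq (([0, 2, 4] : List ℕ).getD g 0 :: FB.r.getD j []) (FB.r.getD q.1 [] ++ kExp KD q.2))

variable (nd : NodeData) (n i : ℕ)

/-- The generators and their orders. -/
noncomputable def checkGens : Bool :=
  nd.gens.all okWord &&
  (List.range nd.gens.length).all fun j =>
    match facts[nd.gfact.getD j 0]? with
    | none => false
    | some f => !f.e && Nat.beq f.i i && Nat.beq f.j i && okWord f.v &&
        wordEq (nd.gens.getD j []) (f.w ++ invWord f.v)

/-- The classes come from equations. -/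
noncomputable def checkClasses : Bool :=
  nd.classes.all fun c =>
    match facts[c.2]? with
    | none => false
    | some f => f.e && Nat.beq f.i i && Nat.blt f.j n && wordEq f.w c.1

/-- The roots reach all cosets of `K` above them. -/
noncomputable def checkRoots : Bool :=
  nd.roots.all fun R => okWord R.t && Nat.beq (scan 10 table (invWord R.t) 0) R.x &&
    (List.range 5).all fun j =>
      let q := R.fib.getD j (0, [], [])
      Nat.blt q.1 nd.classes.length && okK KD q.2.2 &&
        wordEq (R.t ++ FB.r.getD j [])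
          (genWord nd.gens q.2.1 ++ (nd.classes.getD q.1 ([], 0)).1 ++ kExp KD q.2.2)

/-- Each point is a root or is reached from a point of smaller rank. -/
noncomputable def checkPoint (x : ℕ) : Bool :=
  force (get32 nd.par x) fun p =>
    bif Nat.beq (get32 nd.rank x) 0 then
      Nat.blt p nd.roots.length && Nat.beq (nd.roots.getD p ⟨0, [], []⟩).x x
    else
      force (p / 16) fun x' =>
        Nat.blt x' 3906 && Nat.blt (p % 16) nd.gens.length && Nat.blt (get32 nd.rank x') (get32 nd.rank x) &&
          Nat.beq (scan 10 table (invWord (nd.gens.getD (p % 16) [])) x') x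

/-- All the checks of one node. -/
structure NodeOK : Prop where
  gens : checkGens facts nd i = true
  classes : checkClasses facts nd n i = true
  roots : checkRoots KD FB nd = true
  points : ∀ x < 3906, checkPoint nd x = true

/-- The coset number of an element: the image of the point `0` under its inverse. -/
noncomputable def ptOf (p : PresentedGroup pres) : ℕ := imgPt p⁻¹ 0

theorem ptOf_mul (p q : PresentedGroup pres) : ptOf (p * q) = imgPt p⁻¹ (ptOf q) := by
  rw [ptOf, mul_inv_rev, imgPt_mul _ _ (by omega), ptOf]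

theorem ptOf_lt (p : PresentedGroup pres) : ptOf p < 3906 := imgPt_lt _ _

theorem imgPt_word_inv (w : List ℕ) (hw : okWord w = true) {x : ℕ} (hx : x < 3906) :
    imgPt (val w)⁻¹ x = scan 10 table (invWord w) x := by
  rw [← val_invWord w hw, imgPt_word _ (okWord_invWord hw) hx]

variable {KD FB facts nd n i}

/-- The subgroup `K`. -/
noncomputable abbrev kGroup (KD : KData) : Subgroup (PresentedGroup pres) := genGroup KD.kGen

theorem kExp_mem (hk : ∀ s ∈ KD.kGen, okWord s = true) (k : List ℕ) : val (kExp KD k) ∈ kGroup KD :=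
  (genWord_spec hk _).2

/-- The point stabiliser is made of five cosets of `K`. -/
theorem Fibre.split (hF : FB.check KD = true) (htrans : ∀ x < 3906, ∃ q, ptOf q = x)
    {p : PresentedGroup pres} (hp : ptOf p = 0) :
    ∃ j < 5, ∃ k ∈ kGroup KD, p = val (FB.r.getD j []) * k := by
  haveI := finite
  simp only [Fibre.check, Bool.and_eq_true, List.all_eq_true, List.mem_range, Nat.blt_eq, Nat.beq_eq,
    decide_eq_true_eq] at hF
  obtain ⟨⟨⟨⟨hr0, hrok⟩, hk⟩, hfix⟩, hcl⟩ := hF
  set B := subOf letters pres (([0, 2, 4] : List ℕ).map fun g => [g]) with hB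
  have hBfix : ∀ h ∈ B, ptOf h = 0 := by
    intro h hh
    rw [hB, subOf] at hh
    refine closure_induction_mul (p := fun h => ptOf h = 0) ?_ (by simp [ptOf, imgPt_one]) ?_ hh
    · rintro _ ⟨l, hl, rfl⟩
      obtain ⟨g, hg, rfl⟩ := List.mem_map.1 hl
      have h1 := hfix g hg
      have hok : okWord [g] = true := by
        simp only [List.mem_cons, List.not_mem_nil, or_false] at hg
        rcases hg with rfl | rfl | rfl <;> decide
      have h2 : imgPt (val [g]) 0 = 0 := by rw [imgPt_word _ hok (by omega)]; exact h1
      have h3 := imgPt_mul (val [g]) (val [g])⁻¹ (x := 0) (by omega)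
      rw [mul_inv_cancel, imgPt_one (by omega), h2] at h3
      exact h3.symm
    · intro a c ha hc
      rw [ptOf_mul, hc]; exact ha
  choose q hq using htrans
  let q' : Fin 3906 → PresentedGroup pres := fun x => if x.1 = 0 then 1 else q x.1 x.2
  have hq' : ∀ x, ptOf (q' x) = x.1 := by
    intro x
    simp only [q']
    split
    · next h => simp [ptOf, imgPt_one, h]
    · exact hq _ _
  let F : B × Fin 3906 → PresentedGroup pres := fun a => q' a.2 * a.1.1
  have hFpt : ∀ a, ptOf (F a) = a.2.1 := fun a => by
    rw [ptOf_mul, hBfix _ a.1.2]; exact hq' a.2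
  have hinj : Function.Injective F := by
    rintro ⟨⟨h, hh⟩, x⟩ ⟨⟨h', hh'⟩, x'⟩ he
    have hxx : x = x' := Fin.ext (by have := congrArg ptOf he; rwa [hFpt, hFpt] at this)
    subst hxx
    have := mul_left_cancel (show q' x * h = q' x * h' from he)
    simp [this]
  have hbound := B3906.bound (Nat.card B) ⟨Nat.card_pos.ne', le_of_eq rfl⟩
  have htop : subOf letters pres (([0, 1, 2, 3, 4, 5, 6, 7, 8, 9] : List ℕ).map fun g => [g]) = ⊤ :=
    subOf_range_eq_top letters pres letters_col
  rw [htop, Subgroup.card_top] at hbound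
  have hcard : Nat.card (B × Fin 3906) = Nat.card (PresentedGroup pres) := by
    refine le_antisymm (Nat.card_le_card_of_injective F hinj) ?_
    rw [Nat.card_prod, Nat.card_fin, mul_comm]
    exact hbound.2
  obtain ⟨⟨⟨h, hh⟩, x⟩, rfl⟩ := ((Nat.bijective_iff_injective_and_card F).2 ⟨hinj, hcard⟩).2 p
  rw [hFpt] at hp
  have hq0 : q' x = 1 := if_pos hp
  simp only [F, hq0, one_mul]
  suffices ∀ j < 5, ∃ j' < 5, ∃ k ∈ kGroup KD,
      h * val (FB.r.getD j []) = val (FB.r.getD j' []) * k by
    obtain ⟨j, hj, k, hkm, e⟩ := this 0 (by omega)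
    rw [hr0, val_nil, mul_one] at e
    exact ⟨j, hj, k, hkm, e⟩
  rw [hB, subOf] at hh
  refine closure_induction_mul (p := fun h => ∀ j < 5, ∃ j' < 5, ∃ k ∈ kGroup KD,
    h * val (FB.r.getD j []) = val (FB.r.getD j' []) * k) ?_
    (fun j hj => ⟨j, hj, 1, one_mem _, by rw [one_mul, mul_one]⟩) ?_ hh
  · rintro _ ⟨l, hl, rfl⟩ j hj
    obtain ⟨g, hg, rfl⟩ := List.mem_map.1 hl
    obtain ⟨t, ht, rfl⟩ := List.mem_iff_getElem.1 hg
    have hc := hcl j hj t ht
    rw [List.getD_eq_getElem _ _ ht] at hc
    refine ⟨_, hc.1.1, _, kExp_mem hk ((FB.close.getD j []).getD t (0, [])).2, ?_⟩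
    rw [← val_append, ← val_append]
    exact val_eq_of_wordEq hc.2
  · intro a c ha hc j hj
    obtain ⟨j1, hj1, k1, hk1, e1⟩ := hc j hj
    obtain ⟨j2, hj2, k2, hk2, e2⟩ := ha j1 hj1
    exact ⟨j2, hj2, k2 * k1, mul_mem hk2 hk1, by rw [mul_assoc, e1, ← mul_assoc, e2, mul_assoc]⟩

theorem NodeOK.gens_ok (hN : NodeOK KD FB facts nd n i) : ∀ s ∈ nd.gens, okWord s = true := by
  have := hN.gens
  simp only [checkGens, Bool.and_eq_true, List.all_eq_true] at this
  exact this.1

theorem card_stab_of_chain (h : chainOK nd.chain = true) (hg : chainGens nd.chain = nd.gens) :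
    Nat.card (genGroup nd.gens) = chainCard nd.chain := by
  rw [← hg]
  exact card_chain _ h

/-- Every element of `P` splits along a class. -/
theorem NodeOK.decomp (hN : NodeOK KD FB facts nd n i) (hF : FB.check KD = true)
    (htrans : ∀ x < 3906, ∃ q, ptOf q = x) (p : PresentedGroup pres) :
    ∃ σ ∈ genGroup nd.gens, ∃ m < nd.classes.length, ∃ k ∈ kGroup KD,
      p = σ * val (nd.classes.getD m ([], 0)).1 * k := by
  have hk : ∀ s ∈ KD.kGen, okWord s = true := by
    simp only [Fibre.check, Bool.and_eq_true, List.all_eq_true] at hF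
    exact hF.1.1.2
  suffices ∀ r x p, ptOf p = x → get32 nd.rank x = r →
      ∃ σ ∈ genGroup nd.gens, ∃ m < nd.classes.length, ∃ k ∈ kGroup KD,
        p = σ * val (nd.classes.getD m ([], 0)).1 * k from this _ _ p rfl rfl
  intro r
  induction r using Nat.strong_induction_on with
  | _ r ih =>
    intro x p hx hr
    have hpt := hN.points x (hx ▸ ptOf_lt p)
    simp only [checkPoint, force_eq] at hpt
    cases h0 : Nat.beq (get32 nd.rank x) 0 with
    | true =>
      simp only [h0, cond_true, Bool.and_eq_true, Nat.blt_eq, Nat.beq_eq] at hpt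
      obtain ⟨hlen, hRx⟩ := hpt
      rw [List.getD_eq_getElem _ _ hlen] at hRx
      have hroot := hN.roots
      simp only [checkRoots, List.all_eq_true, Bool.and_eq_true, Nat.beq_eq, List.mem_range,
        Nat.blt_eq] at hroot
      obtain ⟨⟨ht, htx⟩, hfib⟩ := hroot _ (List.getElem_mem hlen)
      set R := nd.roots[get32 nd.par x]
      have hfix : ptOf ((val R.t)⁻¹ * p) = 0 := by
        have h1 : ptOf (val R.t) = x := by rw [ptOf, imgPt_word_inv _ ht (by omega), htx, hRx]
        rw [ptOf_mul, inv_inv, hx, ← h1, ptOf, ← imgPt_mul _ _ (by omega), inv_mul_cancel,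
          imgPt_one (by omega)]
      obtain ⟨j, hj, k, hkm, e⟩ := Fibre.split hF htrans hfix
      obtain ⟨⟨hm, -⟩, heq⟩ := hfib j hj
      refine ⟨_, (genWord_spec hN.gens_ok (R.fib.getD j (0, [], [])).2.1).2, _, hm,
        val (kExp KD (R.fib.getD j (0, [], [])).2.2) * k, mul_mem (kExp_mem hk _) hkm, ?_⟩
      have := val_eq_of_wordEq heq
      simp only [val_append] at this
      rw [← mul_assoc, ← this, mul_assoc, ← e, mul_inv_cancel_left]
    | false =>
      simp only [h0, cond_false, Bool.and_eq_true, Nat.blt_eq, Nat.beq_eq] at hpt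
      obtain ⟨⟨⟨hx', hg⟩, hlt⟩, hsc⟩ := hpt
      set g := nd.gens.getD (get32 nd.par x % 16) [] with hgdef
      set x' := get32 nd.par x / 16
      have hgmem : g ∈ nd.gens := by
        rw [hgdef, List.getD_eq_getElem _ _ hg]; exact List.getElem_mem hg
      have hgok := hN.gens_ok g hgmem
      have hpt' : ptOf ((val g)⁻¹ * p) = x' := by
        rw [ptOf_mul, inv_inv, hx, ← hsc, ← imgPt_word_inv _ hgok hx', ← imgPt_mul _ _ hx',
          inv_mul_cancel, imgPt_one hx']
      obtain ⟨σ, hσ, m, hm, k, hkm, e⟩ := ih _ (hr ▸ hlt) x' _ hpt' rfl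
      refine ⟨val g * σ, mul_mem (Subgroup.subset_closure ⟨g, hgmem, rfl⟩) hσ, m, hm, k, hkm, ?_⟩
      rw [mul_assoc (val g), mul_assoc (val g), ← e, mul_inv_cancel_left]

end Cfsg.Agent.Lib.CosetEnum.LyP.Dce
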