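import Cfsg.Agent.Lib.CosetEnum.LyP.Dce.Basic

/-!
Double coset enumeration over `P`: checked derivations of equations `P g_i w z^e = P g_j v`.

An element `z` normalises nothing in `P`, but conjugates the eight listed generators `kGen` of the
subgroup `K` into `P`, and it satisfies a list of relations, each a word in `z` and elements of `P`.
-/

set_option autoImplicit false
set_option maxRecDepth 20000

namespace Cfsg.Agent.Lib.CosetEnum.LyP.Dce

open Cfsg.Agent.Lib.CosetEnum Cfsg.Agent.Lib.CosetEnum.LyP Cfsg.Agent.Lib.ExactCover

/-- An equation `P g_i w z^e = P g_j v`. -/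
structure DFact where
  i : ℕ
  w : List ℕ
  e : Bool
  j : ℕ
  v : List ℕ

/-- A move of a coset: past a word of a relation, by an equation fixing the node, or by `z`. -/
inductive Move where
  | tok
  | stab (f : ℕ) (rev : Bool) (u : List ℕ)
  | step (f : ℕ) (k : List ℕ)

/-- Why an equation holds. -/
inductive Deriv where
  | base
  | tree
  | scan (p i : ℕ) (u : List ℕ) (ms : List Move)
  | cmp (i : ℕ) (u : List ℕ) (ms ms' : List Move)

/-- The data of the generators of `K`: their words and the words of their conjugates by `z`. -/
structure KData where
  kGen : List (List ℕ)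
  thGen : List (List ℕ)

variable (KD : KData)

/-- The word of a product of generators of `K` (`2 i` the `i`th, `2 i + 1` its inverse). -/
def kExp (k : List ℕ) : List ℕ :=
  genWord KD.kGen (k.map fun g => (g / 2, Nat.beq (g % 2) 1))

/-- The word of the conjugate by `z` of a product of generators of `K`. -/
def thExp (k : List ℕ) : List ℕ :=
  genWord KD.thGen (k.map fun g => (g / 2, Nat.beq (g % 2) 1))

/-- The letters are generators of `K`. -/
def okK (k : List ℕ) : Bool := k.all fun g => Nat.blt (g / 2) KD.kGen.length

/-- Run moves along the symbols of a relation (`none` for `z`). -/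
noncomputable def runMoves (acc : List DFact) :
    List Move → List (Option (List ℕ)) → ℕ → List ℕ → Option (ℕ × List ℕ)
  | [], [], i, u => some (i, u)
  | [], _ :: _, _, _ => none
  | .tok :: ms, some w :: ts, i, u => runMoves acc ms ts i (u ++ w)
  | .tok :: _, [], _, _ => none
  | .tok :: _, none :: _, _, _ => none
  | .stab f rev u' :: ms, ts, i, u =>
    match acc[f]? with
    | none => none
    | some x =>
      bif !x.e && Nat.beq x.i i && Nat.beq x.j i && okWord x.w && okWord x.v &&
          wordEq u' ((bif rev then x.v ++ invWord x.w else x.w ++ invWord x.v) ++ u) then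
        runMoves acc ms ts i u'
      else none
  | .step f k :: ms, none :: ts, i, u =>
    match acc[f]? with
    | none => none
    | some x =>
      bif x.e && Nat.beq x.i i && okK KD k && wordEq u (x.w ++ kExp KD k) then
        runMoves acc ms ts x.j (x.v ++ thExp KD k)
      else none
  | .step _ _ :: _, [], _, _ => none
  | .step _ _ :: _, some _ :: _, _, _ => none

variable (pats : List (List (Option (List ℕ))))

/-- Check one derivation. -/
noncomputable def checkFact (nodes : List (ℕ × List ℕ)) (acc : List DFact) (f : DFact) : Deriv → Bool
  | .base => Nat.beq f.i 0 && Nat.beq f.j 0 && !f.e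
  | .tree =>
    match nodes[f.j - 1]? with
    | none => false
    | some x => Nat.blt 0 f.j && Nat.beq x.1 f.i && decide (x.2 = f.w) && f.e && decide (f.v = [])
  | .scan p i u ms =>
    match pats[p]? with
    | none => false
    | some t =>
      bif f.e then
        decide (t.getLast? = some none) && Nat.beq f.j i && wordEq f.v u &&
          match runMoves KD acc ms t.dropLast i u with
          | none => false
          | some q => Nat.beq q.1 f.i && wordEq f.w q.2
      else
        Nat.beq f.i i && wordEq f.w u &&
          match runMoves KD acc ms t i u with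
          | none => false
          | some q => Nat.beq q.1 f.j && wordEq f.v q.2
  | .cmp i u ms ms' =>
    !f.e &&
      match runMoves KD acc ms [none] i u, runMoves KD acc ms' [none] i u with
      | some q, some q' => Nat.beq q.1 f.i && wordEq f.w q.2 && Nat.beq q'.1 f.j && wordEq f.v q'.2
      | _, _ => false

/-- Check a list of derived equations, each from the earlier ones. -/
noncomputable def checkAll (nodes : List (ℕ × List ℕ)) : List (DFact × Deriv) → List DFact → Bool
  | [], _ => true
  | p :: ps, acc => checkFact KD pats nodes acc p.1 p.2 && checkAll nodes ps (acc ++ [p.1])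

/-- An image of `P` and an element `z` satisfying the relations. -/
structure Setting (G : Type*) [Group G] where
  π : PresentedGroup pres →* G
  z : G
  kgen_ok : ∀ i < KD.kGen.length, okWord (KD.kGen.getD i []) = true ∧ okWord (KD.thGen.getD i []) = true
  zk : ∀ i < KD.kGen.length, π (val (KD.kGen.getD i [])) * z = z * π (val (KD.thGen.getD i []))
  pat : ∀ t ∈ pats, (t.map fun o => o.elim z fun w => π (val w)).prod = 1

namespace Setting

variable {KD pats} {G : Type*} [Group G] (S : Setting KD pats G)

/-- The value of a word in `G`. -/
noncomputable def el (u : List ℕ) : G := S.π (val u)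

theorem el_append (u v : List ℕ) : S.el (u ++ v) = S.el u * S.el v := by
  simp only [el, val_append, map_mul]

theorem el_nil : S.el [] = 1 := by simp only [el, val_nil, map_one]

theorem el_inv {u : List ℕ} (h : okWord u = true) : S.el (invWord u) = (S.el u)⁻¹ := by
  rw [el, val_invWord u h, map_inv, el]

theorem el_eq {u v : List ℕ} (h : wordEq u v = true) : S.el u = S.el v :=
  congrArg S.π (val_eq_of_wordEq h)

/-- The product of the symbols of a relation. -/
noncomputable def tokProd (t : List (Option (List ℕ))) : G :=
  (t.map fun o => o.elim S.z fun w => S.el w).prod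

theorem kExp_mul_z : ∀ k : List ℕ, okK KD k = true →
    S.el (kExp KD k) * S.z = S.z * S.el (thExp KD k) := by
  intro k
  induction k with
  | nil => intro _; simp [kExp, thExp, genWord, el_nil]
  | cons g k ih =>
    intro h
    simp only [okK, List.all_cons, Bool.and_eq_true, Nat.blt_eq] at h
    have e1 : kExp KD (g :: k) = (bif Nat.beq (g % 2) 1 then invWord (KD.kGen.getD (g / 2) [])
        else KD.kGen.getD (g / 2) []) ++ kExp KD k := by simp [kExp, genWord]
    have e2 : thExp KD (g :: k) = (bif Nat.beq (g % 2) 1 then invWord (KD.thGen.getD (g / 2) [])
        else KD.thGen.getD (g / 2) []) ++ thExp KD k := by simp [thExp, genWord]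
    obtain ⟨o1, o2⟩ := S.kgen_ok _ h.1
    have hz : S.el (KD.kGen.getD (g / 2) []) * S.z = S.z * S.el (KD.thGen.getD (g / 2) []) := S.zk _ h.1
    rw [e1, e2, el_append, el_append, mul_assoc, ih h.2, ← mul_assoc, ← mul_assoc]
    congr 1
    cases Nat.beq (g % 2) 1 with
    | false => simpa using hz
    | true =>
      simp only [cond_true, S.el_inv o1, S.el_inv o2]
      rw [inv_mul_eq_iff_eq_mul, ← mul_assoc, hz, mul_inv_cancel_right]

/-- The meaning of an equation. -/
def Rel (g : ℕ → G) (f : DFact) : Prop :=
  g f.i * S.el f.w * (bif f.e then S.z else 1) * (g f.j * S.el f.v)⁻¹ ∈ S.π.range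

theorem runMoves_sound {g : ℕ → G} {acc : List DFact} (hacc : ∀ f ∈ acc, S.Rel g f) :
    ∀ (ms : List Move) (ts : List (Option (List ℕ))) (i : ℕ) (u : List ℕ) (A : G),
      A * (g i * S.el u)⁻¹ ∈ S.π.range →
      ∀ j v, runMoves KD acc ms ts i u = some (j, v) →
        A * S.tokProd ts * (g j * S.el v)⁻¹ ∈ S.π.range := by
  intro ms
  induction ms with
  | nil =>
    intro ts i u A h j v he
    cases ts with
    | nil =>
      simp only [runMoves, Option.some.injEq, Prod.mk.injEq] at he
      obtain ⟨rfl, rfl⟩ := he
      simpa [tokProd] using h
    | cons _ _ => simp [runMoves] at he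
  | cons m ms ih =>
    intro ts i u A h j v he
    cases m with
    | tok =>
      rcases ts with _ | ⟨_ | w, ts⟩
      · simp [runMoves] at he
      · simp [runMoves] at he
      · simp only [runMoves] at he
        have h2 : A * S.el w * (g i * S.el (u ++ w))⁻¹ ∈ S.π.range := by
          simpa [el_append, mul_assoc] using h
        have := ih ts i (u ++ w) (A * S.el w) h2 j v he
        simpa [tokProd, mul_assoc] using this
    | stab f rev u' =>
      simp only [runMoves] at he
      cases hf : acc[f]? with
      | none => simp [hf] at he
      | some x =>
        simp only [hf] at he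
        have hR := hacc x (List.mem_of_getElem? hf)
        cases hc : (!x.e && Nat.beq x.i i && Nat.beq x.j i && okWord x.w && okWord x.v &&
            wordEq u' ((bif rev then x.v ++ invWord x.w else x.w ++ invWord x.v) ++ u)) with
        | false => simp [hc] at he
        | true =>
          simp only [hc, cond_true] at he
          simp only [Bool.and_eq_true, Bool.not_eq_true', Nat.beq_eq] at hc
          obtain ⟨⟨⟨⟨⟨he0, hi⟩, hj⟩, hw⟩, hv⟩, heq⟩ := hc
          refine ih ts i u' A ?_ j v he
          simp only [Rel, he0, hi, hj, cond_false, mul_one] at hR
          rw [S.el_eq heq]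
          cases rev with
          | false =>
            simp only [cond_false, el_append, S.el_inv hv]
            have := S.π.range.mul_mem h (S.π.range.inv_mem hR)
            simpa [mul_assoc] using this
          | true =>
            simp only [cond_true, el_append, S.el_inv hw]
            have := S.π.range.mul_mem h hR
            simpa [mul_assoc] using this
    | step f k =>
      rcases ts with _ | ⟨_ | w, ts⟩
      · simp [runMoves] at he
      · simp only [runMoves] at he
        cases hf : acc[f]? with
        | none => simp [hf] at he
        | some x =>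
          simp only [hf] at he
          have hR := hacc x (List.mem_of_getElem? hf)
          cases hc : (x.e && Nat.beq x.i i && okK KD k && wordEq u (x.w ++ kExp KD k)) with
          | false => simp [hc] at he
          | true =>
            simp only [hc, cond_true] at he
            simp only [Bool.and_eq_true, Nat.beq_eq] at hc
            obtain ⟨⟨⟨he0, hi⟩, hk⟩, heq⟩ := hc
            simp only [Rel, he0, hi, cond_true] at hR
            have h2 : A * S.z * (g x.j * S.el (x.v ++ thExp KD k))⁻¹ ∈ S.π.range := by
              have := S.π.range.mul_mem h hR
              rw [S.el_eq heq, el_append] at this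
              rw [el_append]
              have hk' : S.z * (S.el (thExp KD k))⁻¹ = (S.el (kExp KD k))⁻¹ * S.z := by
                rw [eq_inv_mul_iff_mul_eq, ← mul_assoc, S.kExp_mul_z k hk, mul_inv_cancel_right]
              simp only [mul_inv_rev, mul_assoc, inv_mul_cancel_left] at this ⊢
              rw [← mul_assoc S.z, hk']
              simpa [mul_assoc] using this
            have := ih ts x.j (x.v ++ thExp KD k) (A * S.z) h2 j v he
            simpa [tokProd, mul_assoc] using this
      · simp [runMoves] at he

theorem checkAll_sound {g : ℕ → G} {nodes : List (ℕ × List ℕ)} (hg0 : g 0 = 1)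
    (hg : ∀ k x, nodes[k]? = some x → g (k + 1) = g x.1 * S.el x.2 * S.z) :
    ∀ (l : List (DFact × Deriv)) (acc : List DFact), checkAll KD pats nodes l acc = true →
      (∀ f ∈ acc, S.Rel g f) → ∀ f ∈ acc ++ l.map Prod.fst, S.Rel g f := by
  intro l
  induction l with
  | nil => intro acc _ h f hf; exact h f (by simpa using hf)
  | cons p ps ih =>
    intro acc hc hacc
    simp only [checkAll, Bool.and_eq_true] at hc
    obtain ⟨hf, hrest⟩ := hc
    suffices S.Rel g p.1 by
      intro f hfmem
      refine ih (acc ++ [p.1]) hrest ?_ f (by simpa using hfmem)
      intro f hf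
      rcases List.mem_append.1 hf with hf | hf
      · exact hacc f hf
      · rw [List.mem_singleton] at hf; subst hf; exact this
    obtain ⟨x, d⟩ := p
    cases d with
    | base =>
      simp only [checkFact, Bool.and_eq_true, Nat.beq_eq, Bool.not_eq_true'] at hf
      obtain ⟨⟨hi, hj⟩, he⟩ := hf
      simp only [Rel, hi, hj, he, hg0, cond_false, one_mul, mul_one]
      exact S.π.range.mul_mem ⟨_, rfl⟩ (S.π.range.inv_mem ⟨_, rfl⟩)
    | tree =>
      simp only [checkFact] at hf
      cases hn : nodes[x.j - 1]? with
      | none => simp [hn] at hf
      | some y =>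
        simp only [hn, Bool.and_eq_true, Nat.blt_eq, Nat.beq_eq, decide_eq_true_eq] at hf
        obtain ⟨⟨⟨⟨hj, hi⟩, hw⟩, he⟩, hv⟩ := hf
        have := hg _ _ hn
        rw [Nat.sub_add_cancel hj] at this
        simp [Rel, this, hi, hw, he, hv, el_nil, mul_assoc]
    | scan p i u ms =>
      simp only [checkFact] at hf
      cases hp : pats[p]? with
      | none => simp [hp] at hf
      | some t =>
        have ht : S.tokProd t = 1 := S.pat t (List.mem_of_getElem? hp)
        have hA : g i * S.el u * (g i * S.el u)⁻¹ ∈ S.π.range := by simp
        simp only [hp] at hf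
        cases he : x.e with
        | true =>
          simp only [he, cond_true, Bool.and_eq_true, Nat.beq_eq, decide_eq_true_eq] at hf
          obtain ⟨⟨⟨hlast, hj⟩, hv⟩, hr⟩ := hf
          cases hq : runMoves KD acc ms t.dropLast i u with
          | none => simp [hq] at hr
          | some q =>
            simp only [hq, Bool.and_eq_true, Nat.beq_eq] at hr
            have h2 := S.runMoves_sound hacc ms t.dropLast i u _ hA q.1 q.2 hq
            have hsplit : t = t.dropLast ++ [none] := (List.dropLast_append_getLast? none hlast).symm
            have ht' : S.tokProd t.dropLast = S.z⁻¹ := by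
              refine eq_inv_of_mul_eq_one_left ?_
              rw [← ht]
              conv_rhs => rw [hsplit]
              simp [tokProd]
            rw [ht'] at h2
            simp only [Rel, he, cond_true, hj, S.el_eq hv, ← hr.1, S.el_eq hr.2]
            have := S.π.range.inv_mem h2
            simpa [mul_assoc] using this
        | false =>
          simp only [he, cond_false, Bool.and_eq_true, Nat.beq_eq] at hf
          obtain ⟨⟨hi, hw⟩, hr⟩ := hf
          cases hq : runMoves KD acc ms t i u with
          | none => simp [hq] at hr
          | some q =>
            simp only [hq, Bool.and_eq_true, Nat.beq_eq] at hr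
            have h2 := S.runMoves_sound hacc ms t i u _ hA q.1 q.2 hq
            rw [ht] at h2
            simp only [Rel, he, cond_false, hi, S.el_eq hw, ← hr.1, S.el_eq hr.2]
            simpa [mul_assoc] using h2
    | cmp i u ms ms' =>
      simp only [checkFact, Bool.and_eq_true, Bool.not_eq_true'] at hf
      obtain ⟨he, hr⟩ := hf
      have hA : g i * S.el u * (g i * S.el u)⁻¹ ∈ S.π.range := by simp
      cases hq : runMoves KD acc ms [none] i u with
      | none => simp [hq] at hr
      | some q =>
        cases hq' : runMoves KD acc ms' [none] i u with
        | none => simp [hq, hq'] at hr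
        | some q' =>
          simp only [hq, hq', Bool.and_eq_true, Nat.beq_eq] at hr
          obtain ⟨⟨⟨h1, h2⟩, h3⟩, h4⟩ := hr
          have e1 := S.runMoves_sound hacc ms [none] i u _ hA q.1 q.2 hq
          have e2 := S.runMoves_sound hacc ms' [none] i u _ hA q'.1 q'.2 hq'
          simp only [Rel, he, cond_false, ← h1, ← h3, S.el_eq h2, S.el_eq h4]
          have := S.π.range.mul_mem (S.π.range.inv_mem e1) e2
          simpa [tokProd, mul_assoc] using this

end Setting

end Cfsg.Agent.Lib.CosetEnum.LyP.Dce
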