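import Cfsg.Agent.Lib.CosetEnum.LyP.Dce.Setting
import Cfsg.Agent.Lib.CosetEnum.LyP.Dce.Data.CheckDerivs
import Cfsg.Agent.Lib.CosetEnum.LyP.Dce.Data.Check0
import Cfsg.Agent.Lib.CosetEnum.LyP.Dce.Data.Check1
import Cfsg.Agent.Lib.CosetEnum.LyP.Dce.Data.Check2
import Cfsg.Agent.Lib.CosetEnum.LyP.Dce.Data.Check3
import Cfsg.Agent.Lib.CosetEnum.LyP.Dce.Data.Check4

/-!
The presented Lyons group: five double cosets of the image of `P`, so its index is at most 8835156.
-/

set_option autoImplicit false
set_option maxRecDepth 20000

namespace Cfsg.Agent.Lib.CosetEnum.LyP.Dce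

open Cfsg.Agent.Lib.CosetEnum Cfsg.Agent.Lib.CosetEnum.LyP Cfsg.Agent.Lib.ExactCover
open Cfsg.Spor

/-- The certificate. -/
noncomputable def fullCert : FullCert kData pats where
  FB := fibre
  tree := tree
  derivs := derivs
  nds := allNodes
  len := by decide +kernel
  tree_ok := by decide +kernel
  fibre_ok := fibre_ok
  derivs_ok := derivs_ok
  node_ok := by
    intro i hi
    simp only [allNodes, List.length_cons, List.length_nil, zero_add, Nat.reduceAdd] at hi
    interval_cases i
    · exact node0_ok
    · exact node1_ok
    · exact node2_ok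
    · exact node3_ok
    · exact node4_ok

theorem gens_top : Subgroup.closure (Set.range setting.π ∪ {setting.z}) = ⊤ := by
  rw [eq_top_iff, ← PresentedGroup.closure_range_of lyRels, Subgroup.closure_le]
  rintro _ ⟨g, rfl⟩
  have hr : ∀ w, toLy (val w) ∈ Subgroup.closure (Set.range setting.π ∪ {setting.z}) := fun w =>
    Subgroup.subset_closure (Or.inl ⟨_, rfl⟩)
  have hd : ∀ {i : ℕ} {x : Ly.Gen} {w : List ℕ}, defCheck i x w = true →
      (PresentedGroup.of x : Ly) ∈ Subgroup.closure (Set.range setting.π ∪ {setting.z}) := fun h => by
    rw [def_eq h]; exact hr _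
  have hl : ∀ {x : Ly.Gen} {w : List ℕ}, okWord w = true → cSubst x = wordFree w →
      (PresentedGroup.of x : Ly) ∈ Subgroup.closure (Set.range setting.π ∪ {setting.z}) := fun hw h => by
    rw [c_eq hw h]; exact hr _
  cases g
  case z => exact Subgroup.subset_closure (Or.inr rfl)
  case a => exact hl (w := [0]) (by decide +kernel) (by decide +kernel)
  case b => exact hl (w := [2]) (by decide +kernel) (by decide +kernel)
  case c => exact hl (w := [4]) (by decide +kernel) (by decide +kernel)
  case d => exact hl (w := [6]) (by decide +kernel) (by decide +kernel)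
  case e => exact hl (w := [8]) (by decide +kernel) (by decide +kernel)
  case c1 => exact hl (w := [4]) (by decide +kernel) (by decide +kernel)
  case c2 => exact hl (w := [1, 4, 0]) (by decide +kernel) (by decide +kernel)
  case c3 => exact hl (w := [3, 4, 2]) (by decide +kernel) (by decide +kernel)
  case c4 => exact hl (w := [2, 4, 3]) (by decide +kernel) (by decide +kernel)
  case c5 => exact hl (w := kData.kGen.getD 4 []) (by decide +kernel) (by decide +kernel)
  case a1 => exact hd (i := 44) (w := [0]) (by decide +kernel)
  case a2 => exact hd (i := 45) (w := kData.kGen.getD 6 []) (by decide +kernel)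
  case a3 => exact hd (i := 46) (w := kData.kGen.getD 7 []) (by decide +kernel)
  case a4 => exact hd (i := 47) (w := a4W) (by decide +kernel)
  case u => exact hd (i := 48) (w := uW) (by decide +kernel)
  case x23 => exact hd (i := 49) (w := x23W) (by decide +kernel)
  case x24 => exact hd (i := 50) (w := x24W) (by decide +kernel)
  case x25 => exact hd (i := 51) (w := x25W) (by decide +kernel)
  case x29 => exact hd (i := 52) (w := x29W) (by decide +kernel)
  case x47 => exact hd (i := 53) (w := x47W) (by decide +kernel)
  case x96 => exact hd (i := 54) (w := x96W) (by decide +kernel)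
  case x129 => exact hd (i := 55) (w := x129W) (by decide +kernel)
  case x162 => exact hd (i := 56) (w := kData.thGen.getD 0 []) (by decide +kernel)
  case x163 => exact hd (i := 57) (w := kData.thGen.getD 1 []) (by decide +kernel)
  case x164 => exact hd (i := 58) (w := kData.thGen.getD 2 []) (by decide +kernel)
  case x165 => exact hd (i := 59) (w := kData.thGen.getD 3 []) (by decide +kernel)
  case x166 => exact hd (i := 60) (w := kData.thGen.getD 4 []) (by decide +kernel)
  case x167 => exact hd (i := 61) (w := kData.thGen.getD 5 []) (by decide +kernel)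
  case x168 => exact hd (i := 62) (w := kData.thGen.getD 6 []) (by decide +kernel)
  case x169 => exact hd (i := 63) (w := kData.thGen.getD 7 []) (by decide +kernel)
  case x364 => exact hd (i := 64) (w := x364W) (by decide +kernel)
  case x365 => exact hd (i := 65) (w := x365W) (by decide +kernel)
  case x366 => exact hd (i := 66) (w := x366W) (by decide +kernel)
  case x367 => exact hd (i := 67) (w := x367W) (by decide +kernel)
  case x368 => exact hd (i := 68) (w := x368W) (by decide +kernel)
  case x369 => exact hd (i := 69) (w := x369W) (by decide +kernel)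
  case x370 => exact hd (i := 70) (w := x370W) (by decide +kernel)
  case x371 => exact hd (i := 71) (w := x371W) (by decide +kernel)

/-- The representative of a node in the presented group. -/
noncomputable abbrev gLy (i : ℕ) : Ly := fullCert.g setting i

/-- The index in `P` of the stabiliser of each node. -/
def nodeIndex (i : ℕ) : ℕ := [1, 19530, 5812500, 968750, 2034375].getD i 0

theorem stab0_top : fullCert.stab 0 = ⊤ := by
  haveI := finite
  rw [eq_top_iff]
  intro q _
  have hq : q ∈ Subgroup.closure (Set.range (PresentedGroup.of : Fin 5 → PresentedGroup pres)) := by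
    rw [PresentedGroup.closure_range_of]; trivial
  refine (Subgroup.closure_le _).2 ?_ hq
  rintro _ ⟨i, rfl⟩
  rw [← val_gen]
  have hg : (nodeAt fullCert.nds 0).gens = node0.gens := rfl
  change val [2 * i.val] ∈ genGroup (nodeAt fullCert.nds 0).gens
  rw [hg]
  have h : ∀ j < 4, val [2 * j] ∈ genGroup node0.gens := by
    intro j hj
    have hc : ∀ j < 4, wordEq [2 * j] (node0.gens.getD j []) = true ∧ j < node0.gens.length := by
      decide +kernel
    obtain ⟨h1, h2⟩ := hc j hj
    rw [val_eq_of_wordEq h1, List.getD_eq_getElem _ _ h2]
    exact Subgroup.subset_closure ⟨_, List.getElem_mem h2, rfl⟩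
  fin_cases i
  · exact h 0 (by omega)
  · exact h 1 (by omega)
  · exact h 2 (by omega)
  · exact h 3 (by omega)
  · have he : wordEq [8] [3, 3, 1, 5, 0, 4, 1, 4, 0, 6, 4, 2, 0, 3, 6, 4, 6] = true := by decide +kernel
    change val [8] ∈ _
    rw [val_eq_of_wordEq he]
    have hmem : ∀ g < 8, val [g] ∈ genGroup node0.gens := by
      intro g hg
      rcases Nat.even_or_odd' g with ⟨j, rfl | rfl⟩
      · exact h j (by omega)
      · rw [show 2 * j + 1 = ExactCover.flip (2 * j) by unfold ExactCover.flip; split <;> omega,
          val_flip (by omega)]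
        exact inv_mem (h j (by omega))
    have : ∀ w : List ℕ, (∀ g ∈ w, g < 8) → val w ∈ genGroup node0.gens := by
      intro w
      induction w with
      | nil => intro _; rw [val_nil]; exact one_mem _
      | cons g w ih =>
        intro hw
        rw [show g :: w = [g] ++ w from rfl, val_append]
        exact mul_mem (hmem g (hw g List.mem_cons_self)) (ih fun x hx => hw x (List.mem_cons_of_mem _ hx))
    exact this _ (by decide)

theorem card_stab_mul (i : ℕ) (hi : i < 5) :
    Nat.card (fullCert.stab i) * nodeIndex i = 5859000000 := by
  interval_cases i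
  · rw [stab0_top, Subgroup.card_top, card_P.1]; rfl
  · rw [fullCert.card_stab (i := 1) chain1_ok chainGens1]; decide +kernel
  · rw [fullCert.card_stab (i := 2) chain2_ok chainGens2]; decide +kernel
  · rw [fullCert.card_stab (i := 3) chain3_ok chainGens3]; decide +kernel
  · rw [fullCert.card_stab (i := 4) chain4_ok chainGens4]; decide +kernel

theorem index_stab (i : ℕ) (hi : i < 5) : (fullCert.stab i).index = nodeIndex i := by
  have h := card_stab_mul i hi
  have h2 := (fullCert.stab i).card_mul_index
  rw [card_P.1, ← h] at h2
  refine Nat.eq_of_mul_eq_mul_left ?_ h2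
  haveI := finite
  exact Nat.card_pos

theorem finite_quotient : Finite (Ly ⧸ toLy.range) :=
  (fullCert.finite_index setting setting_z2 gens_top).1

/-- The upper bound on the index. -/
theorem index_le : toLy.range.index ≤ 8835156 := by
  have h := (fullCert.finite_index setting setting_z2 gens_top).2
  rw [show setting.π = toLy from rfl] at h
  refine h.trans (le_of_eq ?_)
  have hlen : fullCert.nds.length = 5 := rfl
  have e : ∀ i : Fin fullCert.nds.length,
      Nat.card (PresentedGroup pres ⧸ fullCert.stab i.1) = nodeIndex i.1 :=
    fun i => index_stab i.1 (hlen ▸ i.2)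
  rw [Finset.sum_congr rfl fun i _ => e i, Fin.sum_univ_eq_sum_range (fun i => nodeIndex i), hlen]
  rfl

instance finite_ly : Finite Ly := by
  haveI := finite
  haveI := finite_quotient
  haveI : Finite toLy.range := Finite.of_surjective _ toLy.rangeRestrict_surjective
  exact Finite.of_subgroup_quotient toLy.range

/-- Every element lies in one of the five double cosets. -/
theorem cover (y : Ly) :
    ∃ i < 5, ∃ p q : PresentedGroup pres, y = toLy p * gLy i * toLy q :=
  fullCert.cover setting setting_z2 gens_top y

/-- Conjugation by a node representative maps its stabiliser into the image of `P`. -/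
theorem stab_conj {i : ℕ} (hi : i < 5) {q : PresentedGroup pres} (hq : q ∈ fullCert.stab i) :
    gLy i * toLy q * (gLy i)⁻¹ ∈ toLy.range :=
  fullCert.stab_le setting hi hq

theorem gLy_zero : gLy 0 = 1 := fullCert.g_zero setting

theorem gLy_one : gLy 1 = lyZ := by
  have h := fullCert.g_succ setting (k := 0) (show 0 < fullCert.tree.length from Nat.zero_lt_succ _)
  rw [gLy, h]
  have hp : wordEq (fullCert.tree.getD 0 (0, [])).2 [] = true ∧ (fullCert.tree.getD 0 (0, [])).1 = 0 := by
    decide +kernel
  rw [setting.el_eq hp.1, setting.el_nil, hp.2, fullCert.g_zero, one_mul, one_mul]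
  rfl

theorem gLy_succ {k : ℕ} (hk : k < 4) :
    gLy (k + 1) = gLy (fullCert.tree.getD k (0, [])).1 * toLy (val (fullCert.tree.getD k (0, [])).2) * lyZ :=
  fullCert.g_succ setting hk

end Cfsg.Agent.Lib.CosetEnum.LyP.Dce
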