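import Cfsg.Agent.Lib.CosetEnum.LyP.Dce.Cover

/-!
Consequences of a complete certificate: the double cosets cover the group, and the index of the image
of `P` is at most the sum of the indices of the node stabilisers.
-/

set_option autoImplicit false
set_option maxRecDepth 20000

namespace Cfsg.Agent.Lib.CosetEnum.LyP.Dce

open Cfsg.Agent.Lib.CosetEnum Cfsg.Agent.Lib.CosetEnum.LyP Cfsg.Agent.Lib.ExactCover

/-- A node of the data. -/
def nodeAt (nds : List NodeData) (i : ℕ) : NodeData :=
  nds.getD i ⟨[], [], [], [], [], .leaf 0, .leaf 0⟩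

/-- A complete certificate. -/
structure FullCert (KD : KData) (pats : List (List (Option (List ℕ)))) where
  FB : Fibre
  tree : List (ℕ × List ℕ)
  derivs : List (DFact × Deriv)
  nds : List NodeData
  len : nds.length = tree.length + 1
  tree_ok : ((List.range tree.length).all fun k =>
    Nat.ble (tree.getD k (0, [])).1 k && okWord (tree.getD k (0, [])).2) = true
  fibre_ok : FB.check KD = true
  derivs_ok : checkAll KD pats tree derivs [] = true
  node_ok : ∀ i < nds.length,
    NodeOK KD FB (derivs.map Prod.fst) (nodeAt nds i) nds.length i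

namespace FullCert

variable {KD : KData} {pats : List (List (Option (List ℕ)))} (F : FullCert KD pats)
variable {G : Type*} [Group G] (S : Setting KD pats G)

/-- The representative of a node, along the tree. -/
noncomputable def g : ℕ → G
  | 0 => 1
  | k + 1 =>
    if h : (F.tree.getD k (0, [])).1 ≤ k then
      g (F.tree.getD k (0, [])).1 * S.el (F.tree.getD k (0, [])).2 * S.z
    else 1
termination_by k => k

theorem g_zero : F.g S 0 = 1 := by rw [g]

theorem g_succ {k : ℕ} (hk : k < F.tree.length) :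
    F.g S (k + 1) = F.g S (F.tree.getD k (0, [])).1 * S.el (F.tree.getD k (0, [])).2 * S.z := by
  have h := F.tree_ok
  simp only [List.all_eq_true, List.mem_range, Bool.and_eq_true, Nat.ble_eq] at h
  rw [g, dif_pos (h k hk).1]

theorem rel_of_fact : ∀ f ∈ F.derivs.map Prod.fst, S.Rel (F.g S) f := by
  intro f hf
  refine S.checkAll_sound (F.g_zero S) ?_ F.derivs [] F.derivs_ok (by simp) f (by simpa using hf)
  intro k x hx
  obtain ⟨hk, he⟩ := List.getElem?_eq_some_iff.1 hx
  rw [F.g_succ S hk, List.getD_eq_getElem _ _ hk, he]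

/-- The proved stabiliser of a node. -/
noncomputable abbrev stab (i : ℕ) : Subgroup (PresentedGroup pres) := genGroup (nodeAt F.nds i).gens

theorem card_stab {i : ℕ} (h : chainOK (nodeAt F.nds i).chain = true)
    (hg : chainGens (nodeAt F.nds i).chain = (nodeAt F.nds i).gens) :
    Nat.card (F.stab i) = chainCard (nodeAt F.nds i).chain :=
  card_stab_of_chain h hg

theorem stab_le {i : ℕ} (hi : i < F.nds.length) {q : PresentedGroup pres} (hq : q ∈ F.stab i) :
    F.g S i * S.π q * (F.g S i)⁻¹ ∈ S.π.range := by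
  haveI := finite
  refine closure_induction_mul (p := fun q => F.g S i * S.π q * (F.g S i)⁻¹ ∈ S.π.range)
    ?_ ?_ ?_ hq
  · intro x hx
    obtain ⟨s, hs, rfl⟩ := hx
    obtain ⟨j, hj, rfl⟩ := List.mem_iff_getElem.1 hs
    have h := (F.node_ok i hi).gens
    simp only [checkGens, List.all_eq_true, List.mem_range, Bool.and_eq_true] at h
    have hj' := h.2 j hj
    cases hf : (F.derivs.map Prod.fst)[(nodeAt F.nds i).gfact.getD j 0]? with
    | none => rw [hf] at hj'; simp at hj'
    | some f =>
      simp only [hf, Bool.and_eq_true, Nat.beq_eq, Bool.not_eq_true'] at hj'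
      obtain ⟨⟨⟨⟨he, h1⟩, h2⟩, hv⟩, hw⟩ := hj'
      have hR := F.rel_of_fact S f (List.mem_of_getElem? hf)
      simp only [Setting.Rel, h1, h2, he, cond_false, mul_one, mul_inv_rev] at hR
      rw [List.getD_eq_getElem _ _ hj] at hw
      rw [show S.π (val (nodeAt F.nds i).gens[j]) = S.el (f.w ++ invWord f.v) from
        S.el_eq hw, S.el_append, S.el_inv hv]
      simpa [mul_assoc] using hR
  · simp
  · intro a b ha hb
    have := S.π.range.mul_mem ha hb
    simpa [map_mul, mul_assoc] using this

theorem conj_z {k : PresentedGroup pres} (hk : k ∈ kGroup KD) : ∃ q, S.π k * S.z = S.z * S.π q := by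
  haveI := finite
  refine closure_induction_mul (p := fun k => ∃ q, S.π k * S.z = S.z * S.π q) ?_ ?_ ?_ hk
  · rintro _ ⟨s, hs, rfl⟩
    obtain ⟨j, hj, rfl⟩ := List.mem_iff_getElem.1 hs
    refine ⟨val (KD.thGen.getD j []), ?_⟩
    have := S.zk j hj
    rwa [List.getD_eq_getElem _ _ hj] at this
  · exact ⟨1, by simp⟩
  · rintro a b ⟨qa, ha⟩ ⟨qb, hb⟩
    exact ⟨qa * qb, by rw [map_mul, map_mul, mul_assoc, hb, ← mul_assoc, ha, mul_assoc]⟩

/-- The union of the double cosets. -/
def U : Set G :=
  {x | ∃ i < F.nds.length, ∃ p : PresentedGroup pres, x * (F.g S i * S.π p)⁻¹ ∈ S.π.range}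

include F in
theorem trans (x : ℕ) (hx : x < 3906) : ∃ q, ptOf q = x := by
  have hN := F.node_ok 0 (by rw [F.len]; omega)
  set nd := nodeAt F.nds 0
  suffices ∀ r x, x < 3906 → get32 nd.rank x = r → ∃ q, ptOf q = x from this _ x hx rfl
  intro r
  induction r using Nat.strong_induction_on with
  | _ r ih =>
    intro x hx hr
    have hpt := hN.points x hx
    simp only [checkPoint, force_eq] at hpt
    cases h0 : Nat.beq (get32 nd.rank x) 0 with
    | true =>
      simp only [h0, cond_true, Bool.and_eq_true, Nat.blt_eq, Nat.beq_eq] at hpt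
      obtain ⟨hlen, hRx⟩ := hpt
      rw [List.getD_eq_getElem _ _ hlen] at hRx
      have hroot := hN.roots
      simp only [checkRoots, List.all_eq_true, Bool.and_eq_true, Nat.beq_eq] at hroot
      obtain ⟨⟨ht, htx⟩, -⟩ := hroot _ (List.getElem_mem hlen)
      exact ⟨val nd.roots[get32 nd.par x].t, by
        rw [ptOf, imgPt_word_inv _ ht (by omega), htx, hRx]⟩
    | false =>
      simp only [h0, cond_false, Bool.and_eq_true, Nat.blt_eq, Nat.beq_eq] at hpt
      obtain ⟨⟨⟨hx', hg⟩, hlt⟩, hsc⟩ := hpt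
      obtain ⟨q, hq⟩ := ih _ (hr ▸ hlt) _ hx' rfl
      refine ⟨val (nd.gens.getD (get32 nd.par x % 16) []) * q, ?_⟩
      have hgok : okWord (nd.gens.getD (get32 nd.par x % 16) []) = true := by
        rw [List.getD_eq_getElem _ _ hg]; exact hN.gens_ok _ (List.getElem_mem hg)
      rw [ptOf_mul, hq, imgPt_word_inv _ hgok hx', hsc]

theorem U_mul_z {x : G} (hx : x ∈ F.U S) : x * S.z ∈ F.U S := by
  obtain ⟨i, hi, p, hx⟩ := hx
  have hN := F.node_ok i hi
  obtain ⟨σ, hσ, m, hm, k, hk, rfl⟩ := hN.decomp F.fibre_ok F.trans p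
  obtain ⟨q, hq⟩ := conj_z S hk
  have hc := hN.classes
  simp only [checkClasses, List.all_eq_true] at hc
  have hcm := hc _ (List.getElem_mem hm)
  cases hf : (F.derivs.map Prod.fst)[((nodeAt F.nds i).classes[m]).2]? with
  | none => rw [hf] at hcm; simp at hcm
  | some f =>
    simp only [hf, Bool.and_eq_true, Nat.beq_eq, Nat.blt_eq] at hcm
    obtain ⟨⟨⟨he, h1⟩, h2⟩, hw⟩ := hcm
    have hR := F.rel_of_fact S f (List.mem_of_getElem? hf)
    simp only [Setting.Rel, h1, he, cond_true, S.el_eq hw] at hR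
    refine ⟨f.j, h2, val f.v * q, ?_⟩
    have hst := F.stab_le S hi hσ
    have := S.π.range.mul_mem (S.π.range.mul_mem hx hst) hR
    convert this using 1
    rw [List.getD_eq_getElem _ _ hm]
    simp only [Setting.el, map_mul, mul_inv_rev]
    rw [show S.π k = S.z * S.π q * S.z⁻¹ by rw [← hq, mul_inv_cancel_right]]
    group

variable (hz2 : S.z * S.z ∈ S.π.range) (htop : Subgroup.closure (Set.range S.π ∪ {S.z}) = ⊤)
include hz2 htop

theorem U_top (x : G) : x ∈ F.U S := by
  have hx : x ∈ Subgroup.closure (Set.range S.π ∪ {S.z}) := by rw [htop]; trivial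
  suffices ∀ y ∈ F.U S, y * x ∈ F.U S by
    have h1 : (1 : G) ∈ F.U S := by
      refine ⟨0, by rw [F.len]; omega, 1, ?_⟩
      simp [g_zero, one_mem]
    simpa using this 1 h1
  have hP : ∀ y ∈ F.U S, ∀ q, y * S.π q ∈ F.U S := by
    rintro y ⟨i, hi, p, hy⟩ q
    exact ⟨i, hi, p * q, by simpa [map_mul, mul_assoc] using hy⟩
  induction hx using Subgroup.closure_induction_left with
  | one => intro y hy; simpa using hy
  | mul_left a ha b _ ih =>
    intro y hy
    rw [← mul_assoc]
    refine ih _ ?_
    rcases ha with ⟨q, rfl⟩ | rfl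
    · exact hP y hy q
    · exact F.U_mul_z S hy
  | inv_mul_cancel a ha b _ ih =>
    intro y hy
    rw [← mul_assoc]
    refine ih _ ?_
    rcases ha with ⟨q, rfl⟩ | rfl
    · rw [← map_inv]; exact hP y hy q⁻¹
    · obtain ⟨u, hu⟩ := hz2
      have h4 : S.z⁻¹ = S.z * S.π u⁻¹ := by
        rw [map_inv, hu, mul_inv_rev, mul_inv_cancel_left]
      rw [h4, ← mul_assoc]
      exact hP _ (F.U_mul_z S hy) _

/-- Every element is in a double coset of a node. -/
theorem cover (y : G) : ∃ i < F.nds.length, ∃ p q : PresentedGroup pres, y = S.π p * F.g S i * S.π q := by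
  obtain ⟨i, hi, q, p, hp⟩ := F.U_top S hz2 htop y
  exact ⟨i, hi, p, q, by rw [hp]; group⟩

/-- The cosets of the image of `P` are images of cosets of the node stabilisers. -/
theorem finite_index :
    Finite (G ⧸ S.π.range) ∧
      Nat.card (G ⧸ S.π.range) ≤
        ∑ i : Fin F.nds.length, Nat.card (PresentedGroup pres ⧸ F.stab i.1) := by
  haveI := finite
  let toCoset : (Σ i : Fin F.nds.length, PresentedGroup pres ⧸ F.stab i.1) → G ⧸ S.π.range := fun x =>
    Quotient.liftOn' x.2 (fun q => ((S.π q * (F.g S x.1.1)⁻¹ : G) : G ⧸ S.π.range))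
      (fun q q' h => by
        rw [QuotientGroup.leftRel_apply] at h
        rw [QuotientGroup.eq]
        simpa [map_mul, mul_assoc] using F.stab_le S x.1.2 h)
  have hs : Function.Surjective toCoset := by
    intro c
    induction c using QuotientGroup.induction_on with
    | H y =>
      obtain ⟨i, hi, p, h⟩ := F.U_top S hz2 htop y⁻¹
      refine ⟨⟨⟨i, hi⟩, QuotientGroup.mk p⁻¹⟩, ?_⟩
      change ((S.π p⁻¹ * (F.g S i)⁻¹ : G) : G ⧸ S.π.range) = _
      rw [QuotientGroup.eq]
      have := S.π.range.inv_mem h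
      simpa [mul_assoc] using this
  refine ⟨Finite.of_surjective _ hs, (Nat.card_le_card_of_surjective _ hs).trans ?_⟩
  rw [Nat.card_sigma]

end FullCert

end Cfsg.Agent.Lib.CosetEnum.LyP.Dce
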