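import Cfsg.Agent.Lib.CosetEnum.LyP.Dce.Final

/-!
The stabiliser of node 1 lies in `K`, and `K` has five further double cosets in `P`.
-/

set_option autoImplicit false
set_option maxRecDepth 100000
set_option Elab.async false

namespace Cfsg.Agent.Lib.CosetEnum.LyP.Dce

open Cfsg.Agent.Lib.CosetEnum Cfsg.Agent.Lib.CosetEnum.LyP Cfsg.Agent.Lib.ExactCover

/-- Representatives of the double cosets of `K` outside `K`. -/
def kReps : List (List ℕ) := [[2], [6], [2, 6], [6, 4, 6], [6, 4, 1, 2, 4, 6]]

/-- The generators of the stabiliser of node 1 in the generators of `K`. -/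
def stab1Words : List (List ℕ) :=
  [[2, 11, 3, 11, 15, 4], [10, 10], [5, 1, 11, 11, 2], [1, 10, 0, 14, 7, 12]]

/-- The classes of node 1 as members of double cosets of `K`: representative and the two factors. -/
def class1Words : List (Option (ℕ × List ℕ × List ℕ)) :=
  [none, some (0, [13, 11], [12, 11]), some (4, [13, 3], [0, 3, 7, 13, 0]),
   some (2, [15, 13, 11], [15, 13, 11]), some (1, [5, 15, 0], [2, 15, 13, 11, 7, 14, 13]),
   some (3, [15, 13, 7], [10, 14, 0, 13, 6, 11, 15])]

theorem stab1_test : ((List.range node1.gens.length).all fun j =>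
    wordEq (node1.gens.getD j []) (kExp kData (stab1Words.getD j []))) = true := by decide +kernel

theorem class1_test : ((List.range node1.classes.length).all fun m =>
    match class1Words.getD m none with
    | none => wordEq (node1.classes.getD m ([], 0)).1 []
    | some q => Nat.blt q.1 5 && wordEq (node1.classes.getD m ([], 0)).1
        (kExp kData q.2.1 ++ kReps.getD q.1 [] ++ kExp kData q.2.2)) = true := by decide +kernel

theorem kGen_ok : ∀ s ∈ kData.kGen, okWord s = true := by decide +kernel

theorem stab1_le : fullCert.stab 1 ≤ kGroup kData := by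
  refine (Subgroup.closure_le _).2 ?_
  rintro _ ⟨s, hs, rfl⟩
  have hs' : s ∈ node1.gens := hs
  obtain ⟨j, hj, rfl⟩ := List.mem_iff_getElem.1 hs'
  have h := List.all_eq_true.1 stab1_test j (List.mem_range.2 hj)
  rw [List.getD_eq_getElem _ _ hj] at h
  rw [SetLike.mem_coe, val_eq_of_wordEq h]
  exact kExp_mem kGen_ok _

/-- Every element of `P` is in `K` or in one of five further double cosets of `K`. -/
theorem K_cover (p : PresentedGroup pres) : p ∈ kGroup kData ∨
    ∃ y ∈ kReps, ∃ k ∈ kGroup kData, ∃ k' ∈ kGroup kData, p = k * val y * k' := by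
  have hN : NodeOK kData fibre (derivs.map Prod.fst) node1 5 1 := node1_ok
  obtain ⟨σ, hσ, m, hm, k, hk, rfl⟩ := hN.decomp fullCert.fibre_ok fullCert.trans p
  have hσ' : σ ∈ kGroup kData := stab1_le hσ
  have h := List.all_eq_true.1 class1_test m (List.mem_range.2 hm)
  cases hq : class1Words.getD m none with
  | none =>
    rw [hq] at h
    rw [val_eq_of_wordEq h, val_nil, mul_one]
    exact Or.inl (mul_mem hσ' hk)
  | some q =>
    rw [hq] at h
    simp only [Bool.and_eq_true, Nat.blt_eq] at h
    refine Or.inr ⟨kReps.getD q.1 [], ?_, σ * val (kExp kData q.2.1), mul_mem hσ' (kExp_mem kGen_ok _),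
      val (kExp kData q.2.2) * k, mul_mem (kExp_mem kGen_ok _) hk, ?_⟩
    · have hlt : q.1 < kReps.length := h.1
      rw [List.getD_eq_getElem _ _ hlt]
      exact List.getElem_mem hlt
    · rw [val_eq_of_wordEq h.2, val_append, val_append]
      simp only [mul_assoc]

/-- Conjugation by `z` maps `K` into the image of `P`. -/
theorem K_conj {k : PresentedGroup pres} (hk : k ∈ kGroup kData) :
    lyZ⁻¹ * toLy k * lyZ ∈ toLy.range := by
  obtain ⟨q, hq⟩ := FullCert.conj_z setting hk
  refine ⟨q, ?_⟩
  change toLy q = lyZ⁻¹ * toLy k * lyZ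
  rw [mul_assoc, show toLy k * lyZ = lyZ * toLy q from hq, inv_mul_cancel_left]

/-- The generators of `K` in the generators of the stabiliser of node 1. -/
def kGenWords : List (List (ℕ × Bool)) :=
  [[(3, true), (3, true), (3, true), (3, true)], [(0, true), (3, true), (2, false), (3, false), (1, true), (2, false), (0, true)], [(0, true), (2, false), (1, false), (0, true), (2, true)], [(2, false), (2, false), (0, false), (3, true), (2, true), (3, false), (0, false)], [(2, false), (1, true), (2, false), (1, true)], [(2, false), (3, false), (0, false), (3, true), (2, true), (0, true), (2, true), (3, false)], [(0, false), (2, false), (3, true), (2, true), (1, true), (0, false), (3, false), (0, false)], [(0, false), (0, false), (1, true), (0, true), (1, false), (1, false), (0, false), (0, false)]]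

theorem kGen_test : ((List.range kData.kGen.length).all fun j =>
    wordEq (kData.kGen.getD j []) (genWord node1.gens (kGenWords.getD j []))) = true := by decide +kernel

theorem stab1_eq : fullCert.stab 1 = kGroup kData := by
  refine le_antisymm stab1_le ((Subgroup.closure_le _).2 ?_)
  rintro _ ⟨s, hs, rfl⟩
  obtain ⟨j, hj, rfl⟩ := List.mem_iff_getElem.1 hs
  have h := List.all_eq_true.1 kGen_test j (List.mem_range.2 hj)
  rw [List.getD_eq_getElem _ _ hj] at h
  rw [SetLike.mem_coe, val_eq_of_wordEq h]
  exact (genWord_spec (gens := node1.gens) (node1_ok).gens_ok _).2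

theorem index_K : (kGroup kData).index = 19530 := by
  rw [← stab1_eq, index_stab 1 (by omega)]
  rfl

end Cfsg.Agent.Lib.CosetEnum.LyP.Dce
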