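import Cfsg.Agent.Lib.CosetEnum.LyP.Dce.Data.Pats
import Mathlib.Data.List.Rotate

/-!
The presented Lyons group as a setting for the double coset enumeration: the relations 45-86 written
in the letters of `P` and `z`.
-/

set_option autoImplicit false
set_option maxRecDepth 20000

namespace Cfsg.Agent.Lib.CosetEnum.LyP.Dce

open Cfsg.Agent.Lib.CosetEnum Cfsg.Agent.Lib.CosetEnum.LyP Cfsg.Agent.Lib.ExactCover
open Cfsg.Spor

/-- The free word of a letter. -/
def letterFree (g : ℕ) : FreeGroup Ly.Gen :=
  [Ly.a, Ly.a⁻¹, Ly.b, Ly.b⁻¹, Ly.c, Ly.c⁻¹, Ly.d, Ly.d⁻¹, Ly.e, Ly.e⁻¹].getD g 1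

/-- The free word of a list of letters. -/
def wordFree (w : List ℕ) : FreeGroup Ly.Gen := (w.map letterFree).prod

theorem toLy_letter {g : ℕ} (hg : g < 10) :
    toLy (val [g]) = PresentedGroup.mk lyRels (letterFree g) := by
  have he : ∀ i : Fin 5, toLy (val [2 * i.val]) = PresentedGroup.mk lyRels (FreeGroup.of (abcde i)) :=
    fun i => by rw [toLy_val]; rfl
  have ho : ∀ i : Fin 5, toLy (val [2 * i.val + 1]) = (toLy (val [2 * i.val]))⁻¹ := by
    intro i
    rw [← map_inv, show (2 * i.val + 1) = ExactCover.flip (2 * i.val) by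
      unfold ExactCover.flip; split <;> omega, val_flip (by omega)]
  interval_cases g
  · exact he 0
  · exact (ho 0).trans (by rw [he 0, ← map_inv]; rfl)
  · exact he 1
  · exact (ho 1).trans (by rw [he 1, ← map_inv]; rfl)
  · exact he 2
  · exact (ho 2).trans (by rw [he 2, ← map_inv]; rfl)
  · exact he 3
  · exact (ho 3).trans (by rw [he 3, ← map_inv]; rfl)
  · exact he 4
  · exact (ho 4).trans (by rw [he 4, ← map_inv]; rfl)

theorem toLy_word : ∀ w : List ℕ, okWord w = true →
    toLy (val w) = PresentedGroup.mk lyRels (wordFree w) := by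
  intro w
  induction w with
  | nil => intro _; rw [val_nil, map_one, wordFree, List.map_nil, List.prod_nil, map_one]
  | cons g w ih =>
    intro h
    simp only [okWord, List.all_cons, Bool.and_eq_true, Nat.blt_eq] at h
    rw [show g :: w = [g] ++ w from rfl, val_append, map_mul, toLy_letter h.1, ih h.2, ← map_mul]
    simp [wordFree]

/-- A relation defining a generator as a word in `a, b, c, d` and `c1, ..., c5`. -/
def defCheck (i : ℕ) (x : Ly.Gen) (w : List ℕ) : Bool :=
  okWord w && decide (FreeGroup.lift cSubst (Ly.extra.getD i 1) =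
    FreeGroup.of x * (wordFree w)⁻¹)

theorem def_eq {i : ℕ} {x : Ly.Gen} {w : List ℕ} (h : defCheck i x w = true) :
    (PresentedGroup.of x : Ly) = toLy (val w) := by
  simp only [defCheck, Bool.and_eq_true, decide_eq_true_eq] at h
  have hr : PresentedGroup.mk lyRels (Ly.extra.getD i 1) = 1 := by
    rcases lt_or_ge i Ly.extra.length with hi | hi
    · rw [List.getD_eq_getElem _ _ hi]; exact of_extra (List.getElem_mem _)
    · rw [List.getD_eq_default _ _ hi, map_one]
  rw [← mk_cSubst, h.2, map_mul, map_inv, mul_inv_eq_one] at hr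
  rw [toLy_word w h.1, ← hr]
  rfl

theorem c_eq {g : Ly.Gen} {w : List ℕ} (hw : okWord w = true) (h : cSubst g = wordFree w) :
    (PresentedGroup.of g : Ly) = toLy (val w) := by
  rw [toLy_word w hw, ← h]
  have := mk_cSubst (FreeGroup.of g)
  rw [FreeGroup.lift_apply_of] at this
  exact this.symm

/-- The element `z`. -/
noncomputable abbrev lyZ : Ly := PresentedGroup.of Ly.Gen.z

theorem rel_eq (i : ℕ) {r : FreeGroup Ly.Gen} (h : Ly.extra[i]? = some r) :
    PresentedGroup.mk lyRels r = 1 := of_extra (List.mem_of_getElem? h)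

theorem conj_eq (i : ℕ) {g x : Ly.Gen} {kw tw : List ℕ}
    (h : Ly.extra[i]? = some ((Ly.z⁻¹ * FreeGroup.of g * Ly.z) * (FreeGroup.of x)⁻¹))
    (hg : (PresentedGroup.of g : Ly) = toLy (val kw)) (hx : (PresentedGroup.of x : Ly) = toLy (val tw)) :
    toLy (val kw) * lyZ = lyZ * toLy (val tw) := by
  have h' := rel_eq i h
  simp only [map_mul, map_inv, mul_inv_eq_one] at h'
  rw [← hg, ← hx]
  change _ = lyZ * PresentedGroup.mk lyRels (FreeGroup.of x)
  rw [← h']
  simp [lyZ, PresentedGroup.of, mul_assoc]

theorem zk_ly : ∀ i < kData.kGen.length,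
    toLy (val (kData.kGen.getD i [])) * lyZ = lyZ * toLy (val (kData.thGen.getD i [])) := by
  intro i hi
  simp only [kData, List.length_cons, List.length_nil, zero_add, Nat.reduceAdd] at hi
  interval_cases i
  · exact conj_eq 72 (g := .c1) (x := .x162) rfl (c_eq (by decide +kernel) (by decide +kernel))
      (def_eq (i := 56) (by decide +kernel))
  · exact conj_eq 73 (g := .c2) (x := .x163) rfl (c_eq (by decide +kernel) (by decide +kernel))
      (def_eq (i := 57) (by decide +kernel))
  · exact conj_eq 74 (g := .c3) (x := .x164) rfl (c_eq (by decide +kernel) (by decide +kernel))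
      (def_eq (i := 58) (by decide +kernel))
  · exact conj_eq 75 (g := .c4) (x := .x165) rfl (c_eq (by decide +kernel) (by decide +kernel))
      (def_eq (i := 59) (by decide +kernel))
  · exact conj_eq 76 (g := .c5) (x := .x166) rfl (c_eq (by decide +kernel) (by decide +kernel))
      (def_eq (i := 60) (by decide +kernel))
  · exact conj_eq 77 (g := .a1) (x := .x167) rfl (def_eq (i := 44) (by decide +kernel))
      (def_eq (i := 61) (by decide +kernel))
  · exact conj_eq 78 (g := .a2) (x := .x168) rfl (def_eq (i := 45) (by decide +kernel))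
      (def_eq (i := 62) (by decide +kernel))
  · exact conj_eq 79 (g := .a3) (x := .x169) rfl (def_eq (i := 46) (by decide +kernel))
      (def_eq (i := 63) (by decide +kernel))

/-- The product of the symbols of a relation. -/
noncomputable def lyProd (t : List (Option (List ℕ))) : Ly :=
  (t.map fun o => o.elim lyZ fun w => toLy (val w)).prod

theorem z_sq : lyZ * lyZ = toLy (val uW) := by
  rw [← def_eq (i := 48) (x := .u) (w := uW) (by decide +kernel)]
  have h := rel_eq 80 (r := Ly.z ^ 2 * Ly.u⁻¹) rfl
  rw [map_mul, map_pow, map_inv, mul_inv_eq_one, pow_two] at h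
  exact h

theorem uInv_val : toLy (val uInv) = (toLy (val uW))⁻¹ := by
  rw [← map_inv, ← val_invWord uW (by decide +kernel)]
  exact congrArg _ (val_eq_of_wordEq (by decide +kernel))

theorem basePats_ok : ∀ t ∈ basePats, lyProd t = 1 := by
  have hzi : lyZ⁻¹ = lyZ * (toLy (val uW))⁻¹ := by
    rw [← z_sq, mul_inv_rev, mul_inv_cancel_left]
  have da4 := def_eq (i := 47) (x := .a4) (w := a4W) (by decide +kernel)
  have du := def_eq (i := 48) (x := .u) (w := uW) (by decide +kernel)
  have d23 := def_eq (i := 49) (x := .x23) (w := x23W) (by decide +kernel)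
  have d24 := def_eq (i := 50) (x := .x24) (w := x24W) (by decide +kernel)
  have d25 := def_eq (i := 51) (x := .x25) (w := x25W) (by decide +kernel)
  have d29 := def_eq (i := 52) (x := .x29) (w := x29W) (by decide +kernel)
  have d47 := def_eq (i := 53) (x := .x47) (w := x47W) (by decide +kernel)
  have d96 := def_eq (i := 54) (x := .x96) (w := x96W) (by decide +kernel)
  have d129 := def_eq (i := 55) (x := .x129) (w := x129W) (by decide +kernel)
  have d364 := def_eq (i := 64) (x := .x364) (w := x364W) (by decide +kernel)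
  have d365 := def_eq (i := 65) (x := .x365) (w := x365W) (by decide +kernel)
  have d366 := def_eq (i := 66) (x := .x366) (w := x366W) (by decide +kernel)
  have d367 := def_eq (i := 67) (x := .x367) (w := x367W) (by decide +kernel)
  have d368 := def_eq (i := 68) (x := .x368) (w := x368W) (by decide +kernel)
  have d369 := def_eq (i := 69) (x := .x369) (w := x369W) (by decide +kernel)
  have d370 := def_eq (i := 70) (x := .x370) (w := x370W) (by decide +kernel)
  have d371 := def_eq (i := 71) (x := .x371) (w := x371W) (by decide +kernel)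
  intro t ht
  simp only [basePats, List.mem_cons, List.not_mem_nil, or_false] at ht
  rcases ht with rfl | rfl | rfl | rfl | rfl | rfl <;>
    simp only [lyProd, List.map_cons, List.map_nil, List.prod_cons, List.prod_nil, Option.elim_none,
      Option.elim_some, mul_one, val_append, map_mul, uInv_val]
  · rw [← mul_assoc, z_sq, mul_inv_cancel]
  · have h := rel_eq 81 (r := (Ly.a4 * Ly.z) ^ 3 * Ly.u) rfl
    rw [← da4, ← du]
    simpa [lyZ, PresentedGroup.of, pow_succ, mul_assoc] using h
  · have h := rel_eq 82 (r := Ly.x47 * Ly.z * Ly.x364 * Ly.z * Ly.x368 * Ly.z) rfl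
    rw [← d47, ← d364, ← d368]
    simpa [lyZ, PresentedGroup.of, mul_assoc] using h
  · have h := rel_eq 83
      (r := Ly.z⁻¹ * Ly.x24 * Ly.z⁻¹ * Ly.x369 * Ly.z * Ly.x23 * Ly.z * Ly.x29) rfl
    simp only [← mul_assoc, ← hzi]
    rw [← d24, ← d369, ← d23, ← d29]
    simpa [lyZ, PresentedGroup.of, mul_assoc] using h
  · have h := rel_eq 84
      (r := Ly.z * Ly.x366 * Ly.z * Ly.x365 * Ly.z⁻¹ * Ly.x367 * Ly.z⁻¹ * Ly.x370) rfl
    simp only [← mul_assoc]
    rw [← d366, ← d365, ← d367, ← d370]
    simp only [hzi.symm, mul_assoc _ lyZ (toLy (val uW))⁻¹]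
    simpa [lyZ, PresentedGroup.of, mul_assoc] using h
  · have h := rel_eq 85
      (r := Ly.z * Ly.x96 * Ly.z * Ly.x25 * Ly.z⁻¹ * Ly.x129 * Ly.z⁻¹ * Ly.x371) rfl
    simp only [← mul_assoc]
    rw [← d96, ← d25, ← d129, ← d371]
    simp only [hzi.symm, mul_assoc _ lyZ (toLy (val uW))⁻¹]
    simpa [lyZ, PresentedGroup.of, mul_assoc] using h

theorem pats_ok : ∀ t ∈ pats, lyProd t = 1 := by
  intro t ht
  obtain ⟨q, hq, rfl⟩ := List.mem_map.1 ht
  have hlen : q.1 < basePats.length := by
    have : ∀ q ∈ patUsed, q.1 < basePats.length := by decide +kernel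
    exact this q hq
  have hb := basePats_ok _ (List.getElem_mem hlen)
  rw [List.getD_eq_getElem _ _ hlen]
  unfold lyProd at hb ⊢
  rw [List.map_rotate]
  exact List.prod_rotate_eq_one_of_prod_eq_one hb q.2

/-- The presented Lyons group as a setting. -/
noncomputable def setting : Setting kData pats Ly where
  π := toLy
  z := lyZ
  kgen_ok := by decide +kernel
  zk := zk_ly
  pat := pats_ok

theorem setting_z2 : setting.z * setting.z ∈ setting.π.range := ⟨_, z_sq.symm⟩

end Cfsg.Agent.Lib.CosetEnum.LyP.Dce
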